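import Cfsg.Agent.Lib.ReeOrder.Defs
import Cfsg.Agent.Lib.Suborbit3.PSLRecog
import Cfsg.Agent.Lib.ClassicalGroups.SL2
import Cfsg.Agent.Lib.QuadFixed.Key

/-!
Reduction to the setting `CentData`: the field may be taken in `Type`, and `q ≡ ±1 (mod 8)` does not occur
with abelian Sylow 2-subgroups.
-/

set_option autoImplicit false
set_option linter.style.haveILetI false

open Matrix

namespace CfsgLib.ReeOrder.Small

open Cfsg CfsgLib.ReeType

universe u v

/-- An element of the group of order two other than the identity. -/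
theorem eq_gen : ∀ z : Multiplicative (ZMod 2), z ≠ 1 → z = Multiplicative.ofAdd 1 := by decide

/-- The hypothesis on the centralizer gives `CentData` over a field in `Type`. -/
theorem exists_centData {G : Type u} [Group G] {F : Type v} [Field F] [Fintype F]
    (h4 : 4 ≤ Fintype.card F) (t : G) (ht : orderOf t = 2)
    (hC : Nonempty (Subgroup.centralizer ({t} : Set G) ≃*
      Multiplicative (ZMod 2) × ProjectiveSpecialLinearGroup (Fin 2) F)) :
    ∃ (F' : Type) (_ : Field F') (_ : Fintype F') (_ : DecidableEq F'),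
      Fintype.card F' = Fintype.card F ∧ Nonempty (CentData t F') := by
  classical
  obtain ⟨e⟩ := hC
  haveI : Fintype (Shrink.{0} F) := Fintype.ofEquiv F (equivShrink.{0} F)
  obtain ⟨ψ⟩ := CfsgLib.Suborbit3.nonempty_psl_congr (Shrink.ringEquiv.{0} F).symm
  refine ⟨Shrink.{0} F, inferInstance, inferInstance, Classical.decEq _,
    (Fintype.card_congr (equivShrink.{0} F)).symm, ⟨⟨e.trans ((MulEquiv.refl _).prodCongr ψ), ?_⟩⟩⟩
  set ct : Subgroup.centralizer ({t} : Set G) :=
    ⟨t, Subgroup.mem_centralizer_singleton_iff.2 rfl⟩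
  have hcen : ∀ y, y * e ct = e ct * y := fun y => by
    obtain ⟨y', rfl⟩ := e.surjective y
    rw [← map_mul, ← map_mul]
    exact congrArg e (Subtype.ext (Subgroup.mem_centralizer_singleton_iff.1 y'.2))
  have h2 : (e ct).2 = 1 := by
    have hmem : (e ct).2 ∈ Subgroup.center (ProjectiveSpecialLinearGroup (Fin 2) F) :=
      Subgroup.mem_center_iff.2 fun w => congrArg Prod.snd (hcen (1, w))
    rwa [CfsgLib.QuadFixed.center_psl F h4, Subgroup.mem_bot] at hmem
  have h1 : (e ct).1 ≠ 1 := fun h => by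
    have hct : e ct = 1 := Prod.ext h h2
    have : t = 1 := congrArg Subtype.val ((MulEquiv.map_eq_one_iff e).1 hct)
    rw [this, orderOf_one] at ht
    omega
  exact Prod.ext (eq_gen _ h1) (by show ψ (e ct).2 = 1; rw [h2, map_one])

/-- For `q ≡ ±1 (mod 8)` the Sylow 2-subgroups are not abelian. -/
theorem q_mod_one_seven {G : Type u} [Group G] [Finite G]
    (hab : ∀ P : Sylow 2 G, ∀ a b : P, a * b = b * a)
    {F : Type v} [Field F] [Fintype F] (hq : Fintype.card F % 8 = 1 ∨ Fintype.card F % 8 = 7)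
    (t : G)
    (hC : Nonempty (Subgroup.centralizer ({t} : Set G) ≃*
      Multiplicative (ZMod 2) × ProjectiveSpecialLinearGroup (Fin 2) F)) : False := by
  classical
  haveI : Fact (Nat.Prime 2) := ⟨Nat.prime_two⟩
  obtain ⟨e⟩ := hC
  obtain ⟨Q⟩ : Nonempty (Sylow 2 (SpecialLinearGroup (Fin 2) F)) := inferInstance
  have hodd : Odd (Fintype.card F) := by rw [Nat.odd_iff]; omega
  obtain ⟨k, hk1, ⟨φ⟩⟩ := CfsgLib.ClassicalGroups.SL2.sylow_two_quaternion hodd Q
  -- the Sylow subgroup has order at least sixteen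
  have h16 : 2 ^ 4 ∣ Nat.card (SpecialLinearGroup (Fin 2) F) := by
    rw [CfsgLib.ClassicalGroups.slTwo_card]
    obtain ⟨j, hj⟩ : ∃ j, Fintype.card F = 8 * j + 1 ∨ Fintype.card F = 8 * j + 7 :=
      ⟨Fintype.card F / 8, by omega⟩
    rcases hj with hj | hj <;> rw [hj]
    · exact ⟨(8 * j + 1) * (4 * j + 1) * j, by rw [show 8 * j + 1 - 1 = 8 * j by omega]; ring⟩
    · exact ⟨(8 * j + 7) * (4 * j + 3) * (j + 1), by
        rw [show 8 * j + 7 - 1 = 2 * (4 * j + 3) by omega]; ring⟩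
  have hk2 : 2 ≤ k := by
    have h := Q.pow_dvd_card_of_pow_dvd_card h16
    rw [Nat.card_congr φ.toEquiv, Nat.card_eq_fintype_card, QuaternionGroup.card] at h
    by_contra hlt
    obtain rfl : k = 1 := by omega
    norm_num at h
  set pr : SpecialLinearGroup (Fin 2) F →* ProjectiveSpecialLinearGroup (Fin 2) F :=
    QuotientGroup.mk' _
  let ψ : SpecialLinearGroup (Fin 2) F →* G :=
    (Subgroup.centralizer ({t} : Set G)).subtype.comp
      (e.symm.toMonoidHom.comp ((MonoidHom.inr _ _).comp pr))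
  have hψ : ∀ a b, ψ a = ψ b → pr a = pr b := fun a b h =>
    (Prod.ext_iff.1 (e.symm.injective (Subtype.ext h))).2
  obtain ⟨R, hR⟩ := (Q.isPGroup'.map ψ).exists_le_sylow
  set a₁ : SpecialLinearGroup (Fin 2) F := (φ.symm (QuaternionGroup.a 1)).1
  set b₁ : SpecialLinearGroup (Fin 2) F := (φ.symm (QuaternionGroup.xa 0)).1
  have hcomm : pr (a₁ * b₁) = pr (b₁ * a₁) := hψ _ _ (by
    rw [map_mul, map_mul]
    exact congrArg Subtype.val (hab R ⟨ψ a₁, hR ⟨a₁, (φ.symm _).2, rfl⟩⟩
      ⟨ψ b₁, hR ⟨b₁, (φ.symm _).2, rfl⟩⟩))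
  have hz : (a₁ * b₁)⁻¹ * (b₁ * a₁) ∈ Subgroup.center (SpecialLinearGroup (Fin 2) F) :=
    QuotientGroup.eq.1 hcomm
  have hcz : Nat.card (Subgroup.center (SpecialLinearGroup (Fin 2) F)) = 2 := by
    rw [Cfsg.Agent.Classical.card_center_sl 2 (by norm_num)]
    exact Nat.gcd_eq_left (by omega)
  have hsq : ((a₁ * b₁)⁻¹ * (b₁ * a₁)) ^ 2 = 1 := by
    have h := pow_card_eq_one' (x := (⟨_, hz⟩ : Subgroup.center (SpecialLinearGroup (Fin 2) F)))
    rw [hcz] at h
    exact congrArg Subtype.val h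
  -- but it maps to the element `a ^ 2` of the quaternion group
  have key : ((QuaternionGroup.a (1 : ZMod (2 * 2 ^ k)) * QuaternionGroup.xa 0)⁻¹ *
      (QuaternionGroup.xa 0 * QuaternionGroup.a 1)) ^ 2 = 1 := by
    apply φ.symm.injective
    apply Subtype.ext
    rw [map_pow, map_mul, map_inv, map_mul, map_mul, map_one]
    exact hsq
  have e4 : ((QuaternionGroup.a (1 : ZMod (2 * 2 ^ k)) * QuaternionGroup.xa 0)⁻¹ *
      (QuaternionGroup.xa 0 * QuaternionGroup.a 1)) =
      QuaternionGroup.a (2 : ZMod (2 * 2 ^ k)) := by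
    rw [inv_mul_eq_iff_eq_mul, QuaternionGroup.a_mul_xa, QuaternionGroup.xa_mul_a,
      QuaternionGroup.xa_mul_a]
    congr 1
    ring
  rw [e4, pow_two, QuaternionGroup.a_mul_a, QuaternionGroup.one_def] at key
  have h4 : ((4 : ℕ) : ZMod (2 * 2 ^ k)) = 0 := by
    rw [← QuaternionGroup.a.inj key]; push_cast; ring
  rw [ZMod.natCast_eq_zero_iff] at h4
  have h8 : 2 ^ 2 ≤ 2 ^ k := Nat.pow_le_pow_right two_pos hk2
  have := Nat.le_of_dvd (by norm_num) h4
  omega

end CfsgLib.ReeOrder.Small
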